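import Groth.Agent.GrpSchLib.OrbitImmersion
import Groth.Agent.GrpSchLib.RedSubgroup
import Groth.Agent.GrpSchLib.Action
import Groth.Agent.EtFound.Descent
import Groth.Agent.EqIntLib.StabFibre
import Groth.Agent.GrpSchLib.MonoSubgroup
import Groth.Agent.GrpSchLib.AntiAffineHom
import Groth.Prelude.Def_W4bk4git07Quot

/-!
# Properness of an orbit map
-/

set_option backward.isDefEq.respectTransparency false
set_option backward.isDefEq.respectTransparency.types false
set_option linter.style.haveILetI false

universe u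

open CategoryTheory CategoryTheory.Limits MonoidalCategory CartesianMonoidalCategory MonObj AlgebraicGeometry

namespace Groth.Agent.GITQuot.OrbitProper

variable {k : Type u} [Field k] [IsAlgClosed k]
  {G X : Over (Spec (CommRingCat.of k))} [GrpObj G]
  [LocallyOfFiniteType G.hom] [QuasiCompact G.hom] [LocallyOfFiniteType X.hom]

/-- The action restricted along a homomorphism. -/
noncomputable def restrict {G' : Over (Spec (CommRingCat.of k))} [GrpObj G'] (i : G' ⟶ G) [IsMonHom i]
    (a : AlgGrp.Action G X) : AlgGrp.Action G' X where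
  act := (i ▷ X) ≫ a.act
  one_act := by rw [← comp_whiskerRight_assoc, IsMonHom.one_hom, a.one_act]
  mul_act := by
    rw [← comp_whiskerRight_assoc, IsMonHom.mul_hom, comp_whiskerRight_assoc, a.mul_act, MonoidalCategory.tensorHom_def,
      comp_whiskerRight_assoc, associator_naturality_middle_assoc, associator_naturality_left_assoc,
      ← MonoidalCategory.whiskerLeft_comp_assoc, ← whisker_exchange_assoc]

/-- A closed orbit with proper stabiliser has proper orbit map. -/
theorem isProper_orbitMap (a : AlgGrp.Action G X) (x : 𝟙_ (Over (Spec (CommRingCat.of k))) ⟶ X)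
    (hc : IsClosed (Set.range (a.orbitMap x).left))
    (hst : IsProper (pullback.snd (a.orbitMap x).left x.left)) : IsProper (a.orbitMap x).left := by
  obtain ⟨G', str, i, hi, hic, hred, his, hlft, hqc⟩ := GrpSchLib.RedSubgroup.exists_redSubgroup G
  letI := str
  haveI := hi; haveI := hic; haveI := hred; haveI := his; haveI := hlft; haveI := hqc
  set φ := a.orbitMap x with hφ
  let a' := restrict i a
  have hφ' : a'.orbitMap x = i ≫ φ := by
    show lift (𝟙 G') (toUnit G' ≫ x) ≫ (i ▷ X) ≫ a.act = i ≫ lift (𝟙 G) (toUnit G ≫ x) ≫ a.act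
    rw [lift_whiskerRight_assoc, Category.id_comp, comp_lift_assoc, Category.comp_id, ← Category.assoc i,
      comp_toUnit]
  let H := pullback (i ≫ φ) x
  let j : H ⟶ G' := pullback.fst (i ≫ φ) x
  have hH : IsPullback j (toUnit H) (i ≫ φ) x := by
    rw [toUnit_unique (toUnit H) (pullback.snd (i ≫ φ) x)]
    exact IsPullback.of_hasPullback _ _
  have hH' : IsPullback j (toUnit H) (a'.orbitMap x) x := hφ'.symm ▸ hH
  haveI : Mono x := mono_of_mono_fac (toUnit_unique (x ≫ toUnit X) (𝟙 _))
  haveI : Mono j := hH.mono_fst_of_mono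
  have hmem : ∀ {T : Over (Spec (CommRingCat.of k))} (g : T ⟶ G'),
      (∃ z : T ⟶ H, z ≫ j = g) ↔ g ∈ EqIntLib.fixSubgroup a' (toUnit T ≫ x) := by
    intro T g
    have e : lift g (toUnit T ≫ x) ≫ a'.act = g ≫ a'.orbitMap x := by
      show _ = g ≫ lift (𝟙 G') (toUnit G' ≫ x) ≫ a'.act
      rw [comp_lift_assoc, Category.comp_id, ← Category.assoc g, comp_toUnit]
    rw [EqIntLib.mem_fixSubgroup, e]
    refine ⟨fun ⟨z, hz⟩ => ?_, fun h => ⟨hH'.lift g (toUnit T) h, hH'.lift_fst _ _ _⟩⟩
    rw [← hz, Category.assoc, hH'.w, ← Category.assoc, comp_toUnit]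
  obtain ⟨e₁, he₁⟩ := (hmem (1 : 𝟙_ _ ⟶ G')).2 (Subgroup.one_mem _)
  obtain ⟨μ₁, hμ₁⟩ := (hmem ((fst H H ≫ j) * (snd H H ≫ j))).2
    (Subgroup.mul_mem _ ((hmem _).1 ⟨fst H H, rfl⟩) ((hmem _).1 ⟨snd H H, rfl⟩))
  obtain ⟨ι₁, hι₁⟩ := (hmem j⁻¹).2 (Subgroup.inv_mem _ ((hmem _).1 ⟨𝟙 H, Category.id_comp j⟩))
  obtain ⟨strH, -⟩ := GrpSchLib.exists_grpObj_of_mono j e₁
    (he₁.trans (by rw [Hom.one_def, toUnit_unit, Category.id_comp])) μ₁ hμ₁ ι₁ hι₁
  letI := strH
  haveI : IsProper H.hom := by
    have sq : IsPullback j.left (toUnit H).left (i.left ≫ φ.left) x.left := hH.map (Over.forget _)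
    have sq' := ((IsPullback.of_hasPullback i.left (pullback.fst φ.left x.left)).flip.paste_horiz
      (IsPullback.of_hasPullback φ.left x.left).flip).flip
    haveI : IsProper (pullback.snd (i.left ≫ φ.left) x.left) := by
      rw [← sq'.isoPullback_inv_snd]
      infer_instance
    rw [← Over.w (toUnit H)]
    haveI : IsProper (toUnit H).left := by rw [← sq.isoPullback_hom_snd]; infer_instance
    exact inferInstanceAs (IsProper ((toUnit H).left ≫ 𝟙 _))
  obtain ⟨Q, q, m, ⟨hqs, hqf, hqlfp, hsq⟩, hQ, hm, hqm⟩ :=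
    GrpSchLib.OrbitImmersion.exists_quot a' x j hH'
  haveI := hqs; haveI := hqf; haveI := hqlfp; haveI := hQ; haveI := hm
  obtain ⟨himm, -, hrange⟩ := GrpSchLib.OrbitImmersion.main a' x q m hqm
  haveI := himm
  haveI : IsClosedImmersion m.left := .of_isPreimmersion _ (by
    rw [hrange, hφ', Over.comp_left, Scheme.Hom.comp_base, TopCat.coe_comp, i.left.surjective.range_comp]
    exact hc)
  haveI : IsProper q.left := by
    haveI : IsLocallyNoetherian Q.left := LocallyOfFiniteType.isLocallyNoetherian Q.hom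
    haveI : CompactSpace G'.left := (quasiCompact_iff_compactSpace G'.hom).mp inferInstance
    haveI : QuasiCompact q.left := inferInstance
    haveI : IsProper (fst G' H).left := inferInstanceAs (IsProper (pullback.fst G'.hom H.hom))
    haveI : IsProper (pullback.fst q.left q.left) := by
      have sqq : IsPullback (fst G' H).left ((G' ◁ j) ≫ μ[G']).left q.left q.left := hsq.map (Over.forget _)
      rw [← sqq.isoPullback_inv_fst]
      infer_instance
    haveI := EtFound.fpqc_isProper.{u}
    exact MorphismProperty.of_pullback_fst_of_descendsAlong (Q := @Surjective ⊓ @Flat ⊓ @QuasiCompact)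
      ⟨⟨hqs, hqf⟩, inferInstance⟩ (inferInstance : IsProper (pullback.fst q.left q.left))
  haveI : IsProper (i.left ≫ φ.left) := by
    rw [← Over.comp_left, ← hφ', ← hqm, Over.comp_left]; infer_instance
  haveI : UniversallyClosed φ.left := UniversallyClosed.of_comp_surjective i.left φ.left
  haveI : IsSeparated G.hom := GrpSchLib.AntiAffine.isSeparated_grp G
  haveI : IsSeparated φ.left := by
    haveI : IsSeparated (φ.left ≫ X.hom) := by rw [Over.w φ]; infer_instance
    exact IsSeparated.of_comp φ.left X.hom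
  haveI : LocallyOfFiniteType φ.left := by
    haveI : LocallyOfFiniteType (φ.left ≫ X.hom) := by rw [Over.w φ]; infer_instance
    exact locallyOfFiniteType_of_comp φ.left X.hom
  exact {}

end Groth.Agent.GITQuot.OrbitProper
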