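import Groth.Agent.EqIntLib.StabFibre
import Groth.Agent.GrpSchLib.FibreDimGrp
import Groth.Agent.GrpSchLib.Coincidence
import Groth.Prelude.Def_GLinSh

/-!
# Semicontinuity of the dimension of stabilisers
-/

set_option backward.isDefEq.respectTransparency false
set_option backward.isDefEq.respectTransparency.types false

universe u

open CategoryTheory CategoryTheory.Limits MonoidalCategory CartesianMonoidalCategory MonObj AlgebraicGeometry

namespace Groth.Agent.GITQuot.StabDim

variable {S : Scheme.{u}} {G X : Over S} [GrpObj G] (a : AlgGrp.Action G X)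

/-- Stabilisers are pulled back from the universal one. -/
theorem nonempty_iso {T : Over S} (f : T ⟶ X) :
    Nonempty (GLinSh.stab a f ≅ pullback (EqIntLib.stabHom a) f.left) := by
  have hA := GrpSchLib.isPullback_whiskerLeft (W := G) f
  have hB := GrpSchLib.isPullback_whiskerLeft (W := X) f
  have hc : (G ◁ f) ≫ GIT.psi a (𝟙 X) = GIT.psi a f ≫ (X ◁ f) := by
    apply CartesianMonoidalCategory.hom_ext
    · simp [GIT.psi]
    · simp [GIT.psi]
  have h1 : (GIT.psi a f).left ≫ (snd X T).left = (snd G T).left := by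
    rw [← Over.comp_left, GIT.psi, lift_snd]
  have h2 : (GIT.psi a (𝟙 X)).left ≫ (snd X X).left = (snd G X).left := by
    rw [← Over.comp_left, GIT.psi, lift_snd]
  have P1 : IsPullback (G ◁ f).left (GIT.psi a f).left (GIT.psi a (𝟙 X)).left (X ◁ f).left :=
    IsPullback.of_bot (by rw [h1, h2]; exact hA) (congrArg Over.Hom.left hc) hB
  have P2 := (IsPullback.of_hasPullback (GIT.psi a f).left (lift f (𝟙 T)).left).paste_horiz P1
  have e : (lift f (𝟙 T)).left ≫ (X ◁ f).left = f.left ≫ (lift (𝟙 X) (𝟙 X)).left := by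
    rw [← Over.comp_left, ← Over.comp_left, lift_whiskerLeft, comp_lift, Category.comp_id, Category.id_comp]
  rw [e] at P2
  exact ⟨P2.isoPullback ≪≫ (pullbackLeftPullbackSndIso _ _ _).symm⟩

theorem upperSemicontinuous_stab [LocallyOfFiniteType G.hom] :
    UpperSemicontinuous (fun x : X.left => topologicalKrullDim ↥(GLinSh.stab a
      (Over.homMk (X.left.fromSpecResidueField x) rfl :
        Over.mk (X.left.fromSpecResidueField x ≫ X.hom) ⟶ X))) := by
  haveI : LocallyOfFiniteType (snd G X).left := inferInstanceAs (LocallyOfFiniteType (pullback.snd G.hom X.hom))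
  haveI : IsImmersion (lift (𝟙 X) (𝟙 X)).left := by
    haveI : IsImmersion ((lift (𝟙 X) (𝟙 X)).left ≫ (snd X X).left) := by
      rw [← Over.comp_left, lift_snd]; exact inferInstanceAs (IsImmersion (𝟙 X.left))
    exact IsImmersion.of_comp _ (snd X X).left
  haveI : LocallyOfFiniteType (EqIntLib.stabHom a) := by
    rw [← EqIntLib.fst_comp_snd a]; infer_instance
  let H : Over X.left := Over.mk (pullback.snd (EqIntLib.stabHom a) (𝟙 X.left))
  letI : GrpObj H := EqIntLib.fibreGrpObj a (𝟙 X.left)
  haveI : LocallyOfFiniteType H.hom := inferInstanceAs (LocallyOfFiniteType (pullback.snd _ _))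
  convert GrpSchLib.FibreDimGrp.upperSemicontinuous H using 1
  funext x
  rw [← (H.hom.fiberHomeo x).isHomeomorph.topologicalKrullDim_eq]
  obtain ⟨e⟩ := nonempty_iso a (Over.homMk (X.left.fromSpecResidueField x) rfl :
    Over.mk (X.left.fromSpecResidueField x ≫ X.hom) ⟶ X)
  let e' := e ≪≫ pullback.congrHom rfl (Category.comp_id (X.left.fromSpecResidueField x)).symm ≪≫
    (pullbackLeftPullbackSndIso (EqIntLib.stabHom a) (𝟙 X.left) (X.left.fromSpecResidueField x)).symm
  exact (Scheme.homeoOfIso e').isHomeomorph.topologicalKrullDim_eq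

theorem isClosed_le [LocallyOfFiniteType G.hom] (n : WithBot ℕ∞) :
    IsClosed {x : X.left | n ≤ topologicalKrullDim ↥(GLinSh.stab a
      (Over.homMk (X.left.fromSpecResidueField x) rfl :
        Over.mk (X.left.fromSpecResidueField x ≫ X.hom) ⟶ X))} := by
  have h := (upperSemicontinuous_iff_isOpen_preimage.1 (upperSemicontinuous_stab a) n).isClosed_compl
  convert h using 1
  ext x
  exact (not_lt (α := WithBot ℕ∞)).symm

end Groth.Agent.GITQuot.StabDim
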